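import Cfsg.Agent.PhanStd11.Frame

/-!
A copy of `SU₂(q)` in `SU₃(q)` fixes a non-isotropic point.
-/

set_option autoImplicit false
set_option linter.unusedSectionVars false

namespace Cfsg.Agent.PhanStd11

open Cfsg.Agent.Unitary Cfsg.Agent.KSG55.Phan

variable {F : Type*} [Field F] [Fintype F] {q : ℕ} (hF : Fintype.card F = q ^ 2)

include hF

theorem tv_pow_smul {n : ℕ} {u : Fin n → F} {c : F} (hu : herm q u u = 0) (hc : c + c ^ q = 0) (k : ℕ)
    (x : Fin n → F) : tv hF hu hc ^ k • x = x + ((k : F) * (c * herm q x u)) • u := by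
  induction k with
  | zero => simp
  | succ k ih =>
    rw [pow_succ', mul_smul, ih, tv_smul, herm_add_left, herm_smul_left, hu, mul_zero, add_zero, Nat.cast_succ,
      add_assoc, ← add_smul]
    congr 2
    ring

/-- A character of `SU₂(q)` read off on a fixed line is trivial. -/
theorem line_fixed (hq : 3 ≤ q) (ρ : SU 2 F q →* SU 3 F q) {f : Fin 3 → F} (hf : herm q f f = 1)
    (h : ∀ X, ∃ r : F, ρ X • f = r • f) (X : SU 2 F q) : ρ X • f = f := by
  have hle : (⊤ : Subgroup (SU 2 F q)) ≤ (MulAction.stabilizer (SU 3 F q) f).comap ρ := by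
    rw [← tvGroup_empty hF (n := 2) (by omega), tvGroup, Subgroup.closure_le]
    rintro _ ⟨u, c, hu, hc, -, rfl⟩
    obtain ⟨r, hr⟩ := h (tv hF hu hc)
    have hn := herm_smul_SU (ρ (tv hF hu hc)) f f
    rw [hr, herm_smul_left, herm_smul_right hF, hf, mul_one] at hn
    have hk : ∀ k : ℕ, ρ (tv hF hu hc) ^ k • f = r ^ k • f := by
      intro k
      induction k with
      | zero => rw [pow_zero, pow_zero, one_smul, one_smul]
      | succ k ih => rw [pow_succ', mul_smul, ih, lineSmul, hr, smul_smul, ← pow_succ]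
    have h1 : tv hF hu hc ^ q = 1 := eq_of_smul_eq_SU fun x => by
      rw [tv_pow_smul hF, q_cast_zero hF, zero_mul, zero_smul, add_zero, one_smul]
    have h2 := hk q
    rw [← map_pow, h1, map_one, one_smul] at h2
    have hrq : r ^ q = 1 := by
      by_contra hne
      have h3 := congrArg (fun w => herm q w f) h2
      simp only [herm_smul_left, hf, mul_one] at h3
      exact hne h3.symm
    rw [hrq, mul_one] at hn
    show ρ (tv hF hu hc) • f = f
    rw [hr, hn, one_smul]
  exact hle (Subgroup.mem_top X)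

omit hF in
theorem eq_one_of_frame {d g : SU 3 F q} {a : Fin 3 → F}
    (ha : ∀ i, d • (g • (eI i : Fin 3 → F)) = a i • (g • eI i)) (h1 : ∀ i, a i = 1) : d = 1 :=
  eq_of_smul_eq_SU fun v => by
    obtain ⟨r, hr⟩ := exists_coords g v
    rw [one_smul, hr, d_smul_sum]
    exact Finset.sum_congr rfl fun i _ => by rw [lineSmul, ha, h1, one_smul]

omit hF in
/-- If one eigenvalue is one then exactly one is. -/
theorem others_ne_one {d g : SU 3 F q} {a : Fin 3 → F}
    (ha : ∀ i, d • (g • (eI i : Fin 3 → F)) = a i • (g • eI i)) (hp : a 0 * a 1 * a 2 = 1) (hd : d ≠ 1) {k : Fin 3}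
    (hk : a k = 1) (i : Fin 3) (hi : i ≠ k) : a i ≠ 1 := by
  intro h
  refine hd (eq_one_of_frame ha fun j => ?_)
  fin_cases k <;> fin_cases i <;> fin_cases j <;> simp_all

omit hF in
theorem dg_mul_comm (d : Fin 2 → F) (hd : ∀ i, d i ^ (q + 1) = 1) (hp : ∏ i, d i = 1) (h : d 0 = d 1)
    (X : SU 2 F q) : X * dg d hd hp = dg d hd hp * X := eq_of_smul_eq_SU fun v => by
  have e : ∀ w : Fin 2 → F, dg d hd hp • w = d 0 • w := fun w => by
    rw [dg_smul]; funext i; fin_cases i <;> simp [h]
  rw [mul_smul, mul_smul, e, e, lineSmul]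

/-- The odd case. -/
theorem exists_fixed_odd (hq : 3 ≤ q) (h2 : (2 : F) ≠ 0) (ρ : SU 2 F q →* SU 3 F q) (hρ : Function.Injective ρ) :
    ∃ f : Fin 3 → F, herm q f f = 1 ∧ ∀ X, ρ X • f = f := by
  have hodd : Odd q := by
    rcases Nat.even_or_odd q with ⟨l, hl⟩ | h
    · exfalso
      have hz := q_cast_zero hF
      obtain ⟨p, k, hp, hk, hch, hqp⟩ := exists_prime_pow hF
      have h2q : 2 ∣ p ^ k := hqp ▸ ⟨l, by omega⟩
      have := (Nat.prime_dvd_prime_iff_eq Nat.prime_two hp).1 (Nat.prime_two.dvd_of_dvd_pow h2q)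
      subst this
      exact h2 (CharP.cast_eq_zero F 2)
    · exact h
  have hn : ((-1 : F)) ^ (q + 1) = 1 := (hodd.add_odd odd_one).neg_one_pow
  set z2 : SU 2 F q := dg (fun _ => -1) (fun _ => hn) (by simp) with hz2
  have hsm : ∀ v : Fin 2 → F, z2 • v = -v := fun v => by rw [hz2, dg_smul]; funext i; simp
  have hne : z2 ≠ 1 := fun e => h2 (by
    have := congrFun (congrArg (fun x : SU 2 F q => x • (eI 0 : Fin 2 → F)) e) 0
    simp only [hsm, one_smul, eI, Pi.neg_apply, Pi.single_eq_same] at this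
    linear_combination -this)
  have hsq : z2 * z2 = 1 := eq_of_smul_eq_SU fun v => by rw [mul_smul, hsm, hsm, neg_neg, one_smul]
  have hz1 : ρ z2 ≠ 1 := fun e => hne (hρ (e.trans (map_one ρ).symm))
  obtain ⟨g, a, ha, -, hp⟩ := exists_frame hF (d := ρ z2) (by
    obtain ⟨l, hl⟩ := hodd.add_odd odd_one
    rw [← map_pow, hl, ← two_mul, pow_mul, pow_two, hsq, one_pow, map_one])
  have hsq' : ∀ i, a i = 1 ∨ a i = -1 := fun i => mul_self_eq_one_iff.1 (by
    have h := congrArg (fun x => herm q x (g • (eI i : Fin 3 → F)))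
      (show (a i * a i) • (g • (eI i : Fin 3 → F)) = g • eI i by
        rw [← smul_smul, ← ha, ← lineSmul, ← ha, ← mul_smul, ← map_mul, hsq, map_one, one_smul])
    simpa [herm_smul_left, herm_smul_SU, herm_eI_eI hF] using h)
  obtain ⟨k, hk⟩ : ∃ k, a k = 1 := by
    by_contra h
    push Not at h
    rw [(hsq' 0).resolve_left (h 0), (hsq' 1).resolve_left (h 1), (hsq' 2).resolve_left (h 2)] at hp
    exact h2 (by linear_combination -hp)
  have hf1 : herm q (g • (eI k : Fin 3 → F)) (g • eI k) = 1 := by rw [herm_smul_SU, herm_eI_eI hF, if_pos rfl]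
  refine ⟨g • eI k, hf1, line_fixed hF hq ρ hf1 fun X => ?_⟩
  refine fixed_line hF ha (others_ne_one ha hp hz1 hk) ?_
  rw [← mul_smul, ← map_mul, hz2, ← dg_mul_comm (fun _ => (-1 : F)) (fun _ => hn) (by simp) rfl X, map_mul,
    mul_smul, ← hz2, ha, hk, one_smul]

/-- Totally isotropic subspaces of the hermitian space of dimension three are lines. -/
theorem prop_of_isotropic {a b : Fin 3 → F} (ha0 : a ≠ 0) (ha : herm q a a = 0) (hb : herm q b b = 0)
    (hab : herm q a b = 0) : ∃ r : F, b = r • a := by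
  obtain ⟨i, hi⟩ : ∃ i, a i ≠ 0 := by
    by_contra h; push Not at h; exact ha0 (funext h)
  refine ⟨b i / a i, sub_eq_zero.1 ?_⟩
  set b' := b - (b i / a i) • a with hb'
  have hi' : b' i = 0 := by simp [hb', hi]
  have hbb : herm q b' b' = 0 := by
    rw [hb']
    simp only [herm_sub_left, herm_sub_right hF, herm_smul_left, herm_smul_right hF, ha, hb, hab,
      (herm_eq_zero_comm hF).1 hab]
    ring
  have hab' : herm q a b' = 0 := by
    rw [hb']; simp only [herm_sub_right hF, herm_smul_right hF, ha, hab]; ring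
  have key : ∀ (x y z : F) (u v : F), x * x ^ q + y * y ^ q + z * z ^ q = 0 → u * u ^ q + v * v ^ q = 0 →
      y * u ^ q + z * v ^ q = 0 → x ≠ 0 → u = 0 ∧ v = 0 := by
    intro x y z u v h1 h2 h3 hx
    have hu : u * u ^ q = 0 := by
      have h4 : y ^ q * u + z ^ q * v = 0 := by
        have := congrArg (fun t => t ^ q) h3
        simpa [add_pow_q hF, mul_pow, pow_q_pow_q hF, zero_pow_q hF] using this
      refine (mul_eq_zero.1 (?_ : (x * x ^ q) * (u * u ^ q) = 0)).resolve_left (mul_ne_zero hx (pow_ne_zero _ hx))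
      linear_combination (u * u ^ q) * h1 - y ^ q * u * h3 + z * v ^ q * h4 - z * z ^ q * h2
    have hu0 : u = 0 := by
      rcases mul_eq_zero.1 hu with h | h
      · exact h
      · exact (pow_q_eq_zero_iff hF).1 h
    refine ⟨hu0, ?_⟩
    rw [hu0, zero_mul, zero_add] at h2
    rcases mul_eq_zero.1 h2 with h | h
    · exact h
    · exact (pow_q_eq_zero_iff hF).1 h
  simp only [herm, hermForm, Fin.sum_univ_three] at ha hbb hab'
  have hcase : ∀ j : Fin 3, j = 0 ∨ j = 1 ∨ j = 2 := by omega
  funext l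
  rcases hcase i with rfl | rfl | rfl <;>
    (rw [hi', zero_mul] at hbb; rw [hi', zero_pow_q hF, mul_zero] at hab')
  · obtain ⟨h1, h2⟩ := key (a 0) (a 1) (a 2) (b' 1) (b' 2) ha (by linear_combination hbb)
      (by linear_combination hab') hi
    rcases hcase l with rfl | rfl | rfl <;> assumption
  · obtain ⟨h1, h2⟩ := key (a 1) (a 0) (a 2) (b' 0) (b' 2) (by linear_combination ha) (by linear_combination hbb)
      (by linear_combination hab') hi
    rcases hcase l with rfl | rfl | rfl <;> assumption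
  · obtain ⟨h1, h2⟩ := key (a 2) (a 0) (a 1) (b' 0) (b' 1) (by linear_combination ha) (by linear_combination hbb)
      (by linear_combination hab') hi
    rcases hcase l with rfl | rfl | rfl <;> assumption

/-- The even case. -/
theorem exists_fixed_even (hq : 3 ≤ q) (h2 : (2 : F) = 0) (ρ : SU 2 F q →* SU 3 F q) (hρ : Function.Injective ρ) :
    ∃ f : Fin 3 → F, herm q f f = 1 ∧ ∀ X, ρ X • f = f := by
  classical
  have hadd : ∀ x : F, x + x = 0 := fun x => by rw [← two_mul, h2, zero_mul]
  have hv : ∀ {n : ℕ} (x : Fin n → F), x + x = 0 := fun x => funext fun i => hadd (x i)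
  have hev : Even q := by
    obtain ⟨p, k, hp, hk, hch, hqp⟩ := exists_prime_pow hF
    have : p = 2 := by
      have : ((2 : ℕ) : F) = 0 := by exact_mod_cast h2
      exact ((Nat.prime_dvd_prime_iff_eq hp Nat.prime_two).1 ((CharP.cast_eq_zero_iff F p 2).1 this))
    subst this
    rw [hqp]; exact Nat.even_pow.2 ⟨even_two, hk.ne'⟩
  obtain ⟨α, hα⟩ := exists_root hF
  have hα0 : α ≠ 0 := hα.ne_zero (by omega)
  set d2 : SU 2 F q := dg ![α, α⁻¹]
    (fun i => by fin_cases i <;> simp [inv_pow, hα.pow_eq_one]) (by simp [hα0]) with hd2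
  have hd2s : ∀ (e : ℕ) (v : Fin 2 → F), d2 ^ e • v = ![α ^ e * v 0, α⁻¹ ^ e * v 1] := by
    intro e v
    induction e with
    | zero => funext i; fin_cases i <;> simp
    | succ e ih =>
      rw [pow_succ', mul_smul, ih, hd2, dg_smul]
      funext i
      fin_cases i <;> simp [pow_succ'] <;> ring
  set u0 : Fin 2 → F := fun _ => 1 with hu0
  have hu : herm q u0 u0 = 0 := by
    rw [herm, hermForm, Fin.sum_univ_two]
    simp only [hu0, one_pow, one_mul]
    exact hadd 1
  have h1 : (1 : F) + 1 ^ q = 0 := by rw [one_pow]; exact hadd 1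
  set w2 : SU 2 F q := tv hF hu h1 with hw2
  have hw2s : ∀ v : Fin 2 → F, w2 • v = ![v 1, v 0] := by
    intro v
    rw [hw2, tv_smul]
    funext i
    fin_cases i <;> simp [hu0, herm, hermForm, Fin.sum_univ_two] <;> linear_combination (hadd _)
  have hdw : d2 * w2 * d2 = w2 := eq_of_smul_eq_SU fun v => by
    have h := hd2s 1
    rw [pow_one] at h
    rw [mul_smul, mul_smul, h, hw2s, h, hw2s]
    funext i
    fin_cases i <;> simp [hα0]
  have hw2q : w2 * w2 = 1 := eq_of_smul_eq_SU fun v => by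
    rw [mul_smul, hw2s, hw2s, one_smul]; funext i; fin_cases i <;> simp
  have hd1 : ρ d2 ≠ 1 := fun e => by
    have h := congrFun (hd2s 1 (eI 0)) 0
    rw [pow_one, hρ (e.trans (map_one ρ).symm), one_smul] at h
    simp [eI] at h
    exact hα.ne_one (by omega) h.symm
  have hd2p : d2 ^ (q + 1) = 1 := eq_of_smul_eq_SU fun v => by
    rw [hd2s, one_smul, inv_pow, hα.pow_eq_one]
    funext i; fin_cases i <;> simp
  obtain ⟨g, a, ha, han, hp⟩ := exists_frame hF (d := ρ d2) (by rw [← map_pow, hd2p, map_one])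
  set fr : Fin 3 → (Fin 3 → F) := fun i => g • eI i with hfr
  have hfrn : ∀ i, herm q (fr i) (fr i) = 1 := fun i => by rw [hfr, herm_smul_SU, herm_eI_eI hF, if_pos rfl]
  have ha0 : ∀ i, a i ≠ 0 := fun i => ne_zero_of_norm (han i)
  have hwe : ∀ i, ρ d2 • (ρ w2 • fr i) = (a i)⁻¹ • (ρ w2 • fr i) := fun i => by
    have h : ρ d2 • (ρ w2 • (ρ d2 • fr i)) = ρ w2 • fr i := by
      rw [← mul_smul, ← mul_smul, ← map_mul, ← map_mul, hdw]
    rw [show ρ d2 • fr i = a i • fr i from ha i, lineSmul, lineSmul] at h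
    conv_rhs => rw [← h, inv_smul_smul₀ (ha0 i)]
  have hinvmem : ∀ i, ∃ j, a j = (a i)⁻¹ := by
    intro i
    by_contra h
    push Not at h
    have hz : herm q (ρ w2 • fr i) (ρ w2 • fr i) = 0 := by
      obtain ⟨r, hr⟩ := exists_coords g (ρ w2 • fr i)
      conv_lhs => arg 2; rw [hr]
      rw [herm_sum_left]
      refine Finset.sum_eq_zero fun j _ => ?_
      rw [herm_smul_left, herm_eq_zero_of_eigen hF (ρ d2) (ha j) (hwe i) (by rw [inv_pow, han, inv_one]) (h j),
        mul_zero]
    rw [herm_smul_SU, hfrn] at hz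
    exact one_ne_zero hz
  have hsq1 : ∀ x : F, x * x = 1 → x = 1 := fun x hx => by
    have : (x - 1) * (x - 1) = 0 := by linear_combination hx + (1 - x) * h2
    exact sub_eq_zero.1 (mul_self_eq_zero.1 this)
  obtain ⟨k, hk⟩ : ∃ k, a k = 1 := by
    by_contra h
    push Not at h
    obtain ⟨j, hj⟩ := hinvmem 0
    have hj0 : j ≠ 0 := fun e => by
      subst e
      exact h 0 (hsq1 _ (by nth_rw 2 [hj]; exact mul_inv_cancel₀ (ha0 0)))
    fin_cases j
    · exact hj0 rfl
    · refine h 2 ?_
      simp at hj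
      rwa [hj, mul_inv_cancel₀ (ha0 0), one_mul] at hp
    · refine h 1 ?_
      simp at hj
      rwa [mul_comm (a 0), mul_assoc, hj, mul_inv_cancel₀ (ha0 0), mul_one] at hp
  set f := fr k with hfk
  have hfd : ρ d2 • f = f := by rw [hfk, show ρ d2 • fr k = a k • fr k from ha k, hk, one_smul]
  have hfw : ρ w2 • f = f := by
    obtain ⟨r, hr⟩ := fixed_line hF ha (others_ne_one ha hp hd1 hk) (v := ρ w2 • f)
      (by rw [hfk, hwe, hk, inv_one, one_smul])
    change ρ w2 • f = r • f at hr
    have h' : ρ w2 • (ρ w2 • f) = f := by rw [← mul_smul, ← map_mul, hw2q, map_one, one_smul]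
    rw [hr, lineSmul, hr, smul_smul] at h'
    have := congrArg (fun x => herm q x f) h'
    simp only [herm_smul_left, hfk, hfrn, mul_one] at this
    rw [hr, hsq1 r this, one_smul]
  have hN : ∀ (t : SU 3 F q), t * t = 1 → ∀ x y : Fin 3 → F, herm q (t • x + x) (t • y + y) = 0 := by
    intro t ht x y
    have hxy : herm q (t • x) y = herm q x (t • y) := by
      conv_lhs => rw [← herm_smul_SU t, ← mul_smul, ht, one_smul]
    rw [herm_add_left, herm_add_right hF, herm_add_right hF, herm_smul_SU, hxy]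
    linear_combination (hadd (herm q x y)) + (hadd (herm q x (t • y)))
  have hWsq : ρ w2 * ρ w2 = 1 := by rw [← map_mul, hw2q, map_one]
  obtain ⟨y0, hy0⟩ : ∃ y0 : Fin 3 → F, ρ w2 • y0 + y0 ≠ 0 := by
    by_contra h
    push Not at h
    have : w2 = 1 := hρ ((eq_of_smul_eq_SU fun v => by
      rw [one_smul]; exact add_right_cancel ((h v).trans (hv v).symm)).trans (map_one ρ).symm)
    have hh := congrFun (hw2s (eI 0)) 1
    rw [this, one_smul] at hh
    simp [eI] at hh
  set c0 := ρ w2 • y0 + y0 with hc0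
  have hfc : herm q f c0 = 0 := by
    rw [hc0, herm_add_right hF]
    conv_lhs => arg 1; arg 2; rw [← hfw]
    rw [herm_smul_SU, hadd]
  have hroot : ∀ (c : F) (hc : c + c ^ q = 0), ρ (tv hF hu hc) • f = f := by
    intro c hc
    set t2 := tv hF hu hc with ht2
    have hcomm : t2 * w2 = w2 * t2 := eq_of_smul_eq_SU fun x => by
      simp only [mul_smul, ht2, hw2, tv_smul, herm_add_left, herm_smul_left, hu, mul_zero, add_zero]
      rw [add_right_comm]
    have ht : ρ t2 * ρ t2 = 1 := by
      rw [← map_mul, ← pow_two, show t2 ^ 2 = 1 from eq_of_smul_eq_SU fun x => by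
        rw [ht2, tv_pow_smul hF, Nat.cast_ofNat, h2, zero_mul, zero_smul, add_zero, one_smul], map_one]
    set t := ρ t2
    have e1 : t • c0 = ρ w2 • (t • y0) + t • y0 := by
      rw [hc0, smul_add, ← mul_smul, ← mul_smul, ← map_mul, ← map_mul, hcomm]
    obtain ⟨r, hr⟩ := prop_of_isotropic hF hy0 (hN _ hWsq y0 y0) (b := t • c0) (by rw [e1]; exact hN _ hWsq _ _)
      (by rw [e1]; exact hN _ hWsq _ _)
    have h' : t • (t • c0) = c0 := by rw [← mul_smul, ht, one_smul]
    rw [hr, lineSmul, hr, smul_smul] at h'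
    obtain ⟨l, hl⟩ : ∃ l, c0 l ≠ 0 := by by_contra h; push Not at h; exact hy0 (funext h)
    have hr1 : r = 1 := hsq1 r (mul_right_cancel₀ hl (by rw [one_mul]; exact congrFun h' l))
    rw [hr1, one_smul] at hr
    have hline : ∀ z, ∃ m : F, t • z + z = m • c0 := fun z => prop_of_isotropic hF hy0 (hN _ hWsq y0 y0)
      (hN _ ht z z) (by rw [herm_add_right hF]; conv_lhs => arg 1; arg 2; rw [← hr]
                        rw [herm_smul_SU, hadd])
    have hb : t • f + f = 0 := eq_zero_of_herm hF fun z => by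
      obtain ⟨m, hm⟩ := hline z
      have hxy : herm q (t • f) z = herm q f (t • z) := by
        conv_lhs => rw [← herm_smul_SU t, ← mul_smul, ht, one_smul]
      rw [herm_add_left, hxy, ← herm_add_right hF, hm, herm_smul_right hF, hfc, mul_zero]
    exact add_right_cancel (hb.trans (hv f).symm)
  refine ⟨f, hfrn k, ?_⟩
  have hle : (⊤ : Subgroup (SU 2 F q)) ≤ (MulAction.stabilizer (SU 3 F q) f).comap ρ := by
    rw [← tvGroup_empty hF (n := 2) (by omega), tvGroup, Subgroup.closure_le]
    rintro _ ⟨u, c, huu, hc, -, rfl⟩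
    show ρ (tv hF huu hc) • f = f
    have hsum := huu
    simp only [herm, hermForm, Fin.sum_univ_two] at hsum
    by_cases hu00 : u 0 = 0
    · have hu1 : u 1 = 0 := by
        rw [hu00, zero_mul, zero_add] at hsum
        rcases mul_eq_zero.1 hsum with h | h
        · exact h
        · exact (pow_q_eq_zero_iff hF).1 h
      have huz : u = 0 := funext fun i => by fin_cases i <;> assumption
      rw [show tv hF huu hc = 1 from eq_of_smul_eq_SU fun x => by rw [tv_smul, one_smul, huz, smul_zero, add_zero],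
        map_one, one_smul]
    set r := u 1 / u 0 with hrdef
    have hr : r ^ (q + 1) = 1 := by
      rw [hrdef, div_pow, div_eq_one_iff_eq (pow_ne_zero _ hu00), pow_succ, pow_succ]
      linear_combination hsum - (u 0 ^ q * u 0) * h2
    obtain ⟨j, -, hj⟩ := hα.eq_pow_of_pow_eq_one hr
    obtain ⟨l, hl⟩ := hev
    set e := j * (l + 1) * q with he
    have hone : α ^ (q + 1) = 1 := hα.pow_eq_one
    have hsq : α⁻¹ ^ e * α⁻¹ ^ e = r := by
      rw [← hj, he, ← pow_add, inv_pow]
      refine inv_eq_of_mul_eq_one_right ?_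
      rw [← pow_add, show j * (l + 1) * q + j * (l + 1) * q + j = (q + 1) * (j * (q + 1)) by rw [hl]; ring, pow_mul, hone, one_pow]
    set D := d2 ^ e with hD
    set lam := u 0 * α⁻¹ ^ e with hlam
    have hu' : herm q (D • u0) (D • u0) = 0 := by rw [herm_smul_SU, hu]
    have hueq : u = lam • (D • u0) := by
      funext i
      rw [hD, hd2s, hlam]
      have hinv : α⁻¹ ^ e * α ^ e = 1 := by rw [← mul_pow, inv_mul_cancel₀ hα0, one_pow]
      fin_cases i
      · simp only [hu0, Pi.smul_apply, smul_eq_mul]; simp; rw [mul_assoc, ← inv_pow, hinv, mul_one]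
      · simp only [hu0, Pi.smul_apply, smul_eq_mul]; simp; rw [mul_assoc, ← inv_pow, hsq, hrdef]; field_simp
    have hc' : c * lam ^ (q + 1) + (c * lam ^ (q + 1)) ^ q = 0 := by
      rw [mul_pow c (lam ^ (q + 1)), norm_fixed hF, ← add_mul, hc, zero_mul]
    have htv : tv hF huu hc = D * tv hF hu hc' * D⁻¹ := by
      rw [conj_tv]
      refine eq_of_smul_eq_SU fun x => ?_
      rw [tv_smul, tv_smul, hueq, herm_smul_right hF, smul_smul, pow_succ]
      congr 2
      ring
    have hDf : ρ D • f = f := (Subgroup.pow_mem (MulAction.stabilizer (SU 3 F q) f) hfd e : ρ d2 ^ e ∈ _) |> fun h => by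
      rw [hD, map_pow]; exact h
    rw [htv, map_mul, map_mul, mul_smul, mul_smul, map_inv, inv_smul_eq_iff.2 hDf.symm, hroot, hDf]
  exact fun X => hle (Subgroup.mem_top X)

end Cfsg.Agent.PhanStd11
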