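import Cfsg.Agent.KSG55.Phan.Embed
import Cfsg.Agent.KSG55.SUStep.Geom
import Cfsg.Agent.Lib.Unitary.Generation

/-!
Elements of exponent `q + 1` of `SU₃(q)` have orthonormal eigenframes.
-/

set_option autoImplicit false
set_option linter.unusedSectionVars false

namespace Cfsg.Agent.PhanStd11

open Cfsg.Agent.Unitary Cfsg.Agent.KSG55.Phan
open Cfsg.Agent.KSG55.SUStep (exists_fixS_one)

variable {F : Type*} [Field F] [Fintype F] {q : ℕ} (hF : Fintype.card F = q ^ 2)

include hF

theorem q_cast_zero : (q : F) = 0 := by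
  obtain ⟨p, k, hp, hk, hch, rfl⟩ := exists_prime_pow hF
  rw [Nat.cast_pow, CharP.cast_eq_zero, zero_pow hk.ne']

theorem exists_root : ∃ α : F, IsPrimitiveRoot α (q + 1) := by
  classical
  obtain ⟨g, hg⟩ := IsCyclic.exists_generator (α := Fˣ)
  have hord : orderOf g = q ^ 2 - 1 := by
    rw [orderOf_eq_card_of_forall_mem_zpowers hg, Nat.card_units, Nat.card_eq_fintype_card, hF]
  have hq := two_le_q hF
  have hfac : q ^ 2 - 1 = (q + 1) * (q - 1) := by
    have := Nat.sq_sub_sq q 1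
    simpa using this
  refine ⟨((g ^ (q - 1) : Fˣ) : F), IsPrimitiveRoot.coe_units_iff.2 ?_⟩
  have h := IsPrimitiveRoot.orderOf g
  rw [hord] at h
  exact h.pow (by rw [hfac]; exact Nat.mul_pos (by omega) (by omega)) (by rw [hfac, mul_comm])

theorem herm_eq_zero_of_eigen {n : ℕ} (d : SU n F q) {x y : Fin n → F} {a b : F} (hx : d • x = a • x)
    (hy : d • y = b • y) (hb : b ^ (q + 1) = 1) (hab : a ≠ b) : herm q x y = 0 := by
  have h := herm_smul_SU d x y
  rw [hx, hy, herm_smul_left, herm_smul_right hF] at h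
  by_contra h0
  have h1 : a * b ^ q = 1 := mul_right_cancel₀ h0 (by rw [one_mul]; linear_combination h)
  refine hab ?_
  calc a = a * b ^ q * b := by rw [mul_assoc, ← pow_succ, hb, mul_one]
    _ = b := by rw [h1, one_mul]

omit hF in
theorem d_smul_sum {n : ℕ} {ι : Type*} (g : SU n F q) (s : Finset ι) (f : ι → Fin n → F) :
    g • (∑ i ∈ s, f i) = ∑ i ∈ s, g • f i := Finset.smul_sum

theorem smul_supp {n : ℕ} {d : SU n F q} {S : Finset (Fin n)}
    (hS : ∀ i ∈ S, ∃ a : F, d • (eI i : Fin n → F) = a • eI i) {v : Fin n → F} (hv : v ∈ supp S) :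
    d • v ∈ supp S := by
  intro i hi
  obtain ⟨a, ha⟩ := hS i hi
  have h := herm_smul_SU d v (eI i : Fin n → F)
  rw [ha, herm_smul_right hF, herm_eI_right hF, herm_eI_right hF, hv i hi] at h
  rcases mul_eq_zero.1 h with h' | h'
  · exfalso
    have h2 := herm_smul_SU d (eI i : Fin n → F) (eI i)
    rw [ha, herm_smul_left, herm_smul_right hF, h', zero_mul, mul_zero, herm_eI_eI hF, if_pos rfl] at h2
    exact zero_ne_one h2
  · exact h'

/-- One step of diagonalisation. -/
theorem exists_step {n : ℕ} {d : SU n F q} (hd : d ^ (q + 1) = 1) {S : Finset (Fin n)}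
    (hS : ∀ i ∈ S, ∃ a : F, d • (eI i : Fin n → F) = a • eI i) {j : Fin n} (hj : j ∉ S) (h2 : 2 ≤ Sᶜ.card) :
    ∃ g ∈ (fixS S : Subgroup (SU n F q)), ∃ b : F, (g⁻¹ * d * g) • (eI j : Fin n → F) = b • eI j := by
  classical
  obtain ⟨α, hα⟩ := exists_root hF
  set v : Fin n → F := eI j with hv
  let P : ℕ → Fin n → F := fun i => ∑ k ∈ Finset.range (q + 1), (α ^ i) ^ k • (d ^ k • v)
  have hvS : v ∈ supp S := eI_mem_supp hj
  have hαn : ∀ i, (α ^ i) ^ (q + 1) = 1 := fun i => by rw [← pow_mul, mul_comm, pow_mul, hα.pow_eq_one, one_pow]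
  have hPS : ∀ i, P i ∈ supp S := fun i => Submodule.sum_mem _ fun k _ => Submodule.smul_mem _ _ <| by
    clear ‹k ∈ Finset.range (q + 1)›
    induction k with
    | zero => rw [pow_zero, one_smul]; exact hvS
    | succ k ih => rw [pow_succ', mul_smul]; exact smul_supp hF hS ih
  have hshift : ∀ i, α ^ i • (d • P i) = P i := by
    intro i
    set f : ℕ → Fin n → F := fun k => (α ^ i) ^ k • (d ^ k • v) with hf
    have e : α ^ i • (d • P i) = ∑ k ∈ Finset.range (q + 1), f (k + 1) := by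
      show α ^ i • (d • ∑ k ∈ Finset.range (q + 1), f k) = _
      rw [d_smul_sum, Finset.smul_sum]
      refine Finset.sum_congr rfl fun k _ => ?_
      simp only [hf]
      rw [lineSmul, smul_smul, ← mul_smul d, ← pow_succ', ← pow_succ']
    have h1 := Finset.sum_range_succ f (q + 1)
    have h2 := Finset.sum_range_succ' f (q + 1)
    have h0 : f (q + 1) = f 0 := by simp only [hf]; rw [hαn, hd, pow_zero, pow_zero]
    rw [h0] at h1
    rw [e]
    show _ = ∑ k ∈ Finset.range (q + 1), f k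
    exact add_right_cancel (h2.symm.trans h1)
  have hα0 : α ≠ 0 := hα.ne_zero (by omega)
  have heig : ∀ i, d • P i = (α ^ i)⁻¹ • P i := fun i => by
    conv_rhs => rw [← hshift i, inv_smul_smul₀ (pow_ne_zero _ hα0)]
  have hsum : ∑ i ∈ Finset.range (q + 1), P i = v := by
    simp only [P]
    rw [Finset.sum_comm, Finset.sum_eq_single 0]
    · simp only [pow_zero, one_smul]
      rw [Finset.sum_const, Finset.card_range, ← Nat.cast_smul_eq_nsmul F, Nat.cast_succ, q_cast_zero hF, zero_add,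
        one_smul]
    · intro k hk hk0
      rw [← Finset.sum_smul]
      have hk' : α ^ k ≠ 1 := hα.pow_ne_one_of_pos_of_lt hk0 (Finset.mem_range.1 hk)
      have hg := geom_sum_eq hk' (q + 1)
      rw [hαn, sub_self, zero_div] at hg
      rw [Finset.sum_congr rfl (g := fun i => (α ^ k) ^ i) (fun i _ => by rw [← pow_mul, ← pow_mul, mul_comm]), hg,
        zero_smul]
    · intro h; simp at h
  have hinj : ∀ i ∈ Finset.range (q + 1), ∀ k ∈ Finset.range (q + 1), (α ^ i)⁻¹ = (α ^ k)⁻¹ → i = k :=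
    fun i hi k hk h => hα.pow_inj (Finset.mem_range.1 hi) (Finset.mem_range.1 hk) (inv_injective h)
  obtain ⟨i, -, hi⟩ : ∃ i ∈ Finset.range (q + 1), herm q (P i) (P i) ≠ 0 := by
    by_contra h
    push Not at h
    have h1 : herm q v v = 1 := by rw [hv, herm_eI_eI hF, if_pos rfl]
    rw [← hsum, herm_sum_left, Finset.sum_eq_zero] at h1
    · exact zero_ne_one h1
    intro i hi
    rw [herm_swap hF, herm_sum_left, Finset.sum_eq_zero, zero_pow_q hF]
    intro k hk
    by_cases hik : k = i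
    · rw [hik]; exact h i hi
    · exact herm_eq_zero_of_eigen hF d (heig k) (heig i) (by rw [inv_pow, hαn, inv_one])
        fun e => hik (hinj k hk i hi e)
  obtain ⟨c, hc⟩ := exists_norm_eq hF (herm_self_fixed hF (P i))
  have hc0 : c ≠ 0 := fun e => hi (by rw [← hc, e, zero_pow (by omega)])
  obtain ⟨g, hg, hgv⟩ := exists_fixS_one hF h2 (eI_mem_supp hj) (Submodule.smul_mem (supp S) c⁻¹ (hPS i))
    (show herm q (eI j : Fin n → F) (eI j) = 1 by rw [herm_eI_eI hF, if_pos rfl])
    (by rw [herm_smul_left, herm_smul_right hF, ← hc, inv_pow, pow_succ]; field_simp)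
  refine ⟨g, hg, (α ^ i)⁻¹, ?_⟩
  rw [mul_smul, mul_smul, hgv, lineSmul, heig, smul_comm c⁻¹, ← hgv, lineSmul, inv_smul_smul]

/-- An element of exponent `q + 1` has an orthonormal eigenframe. -/
theorem exists_frame {d : SU 3 F q} (hd : d ^ (q + 1) = 1) :
    ∃ (g : SU 3 F q) (a : Fin 3 → F), (∀ i, d • (g • (eI i : Fin 3 → F)) = a i • (g • eI i)) ∧
      (∀ i, a i ^ (q + 1) = 1) ∧ a 0 * a 1 * a 2 = 1 := by
  classical
  obtain ⟨g1, -, b0, h0⟩ := exists_step hF hd (S := ∅) (by simp) (j := 0) (by simp) (by simp)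
  set d1 := g1⁻¹ * d * g1 with hd1
  have hd1p : d1 ^ (q + 1) = 1 := by
    have : d1 = MulAut.conj g1⁻¹ d := by simp [hd1, MulAut.conj_apply]
    rw [this, ← map_pow, hd, map_one]
  obtain ⟨g2, hg2, b1, h1⟩ := exists_step hF hd1p (S := {(0 : Fin 3)})
    (fun i hi => ⟨b0, by rw [Finset.mem_singleton.1 hi]; exact h0⟩) (j := 1) (by simp) (by simp [Finset.card_compl])
  set e := g2⁻¹ * d1 * g2 with he
  have hg20 : g2 • (eI 0 : Fin 3 → F) = eI 0 := mem_fixS.1 hg2 0 (by simp)
  have e0 : e • (eI 0 : Fin 3 → F) = b0 • eI 0 := by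
    rw [he, mul_smul, mul_smul, hg20, h0, lineSmul]
    congr 1
    exact inv_smul_eq_iff.2 hg20.symm
  have e2 : ∃ b : F, e • (eI 2 : Fin 3 → F) = b • eI 2 := by
    refine ⟨(e • (eI 2 : Fin 3 → F)) 2, funext fun k => ?_⟩
    have hS : ∀ i ∈ ({0, 1} : Finset (Fin 3)), ∃ a : F, e • (eI i : Fin 3 → F) = a • eI i := by
      intro i hi
      simp only [Finset.mem_insert, Finset.mem_singleton] at hi
      rcases hi with rfl | rfl
      · exact ⟨b0, e0⟩
      · exact ⟨b1, h1⟩
    have hs := smul_supp hF hS (v := (eI 2 : Fin 3 → F)) (eI_mem_supp (by simp))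
    fin_cases k
    · simpa [eI] using hs 0 (by simp)
    · simpa [eI] using hs 1 (by simp)
    · simp [eI]
  obtain ⟨b2, h2⟩ := e2
  let a : Fin 3 → F := ![b0, b1, b2]
  have hea : ∀ i, e • (eI i : Fin 3 → F) = a i • eI i := by
    intro i
    fin_cases i
    · exact e0
    · exact h1
    · exact h2
  refine ⟨g1 * g2, a, fun i => ?_, fun i => ?_, ?_⟩
  · have h : d * (g1 * g2) = (g1 * g2) * e := by rw [he, hd1]; group
    rw [← mul_smul, h, mul_smul, hea, lineSmul]
  · have h := herm_smul_SU e (eI i : Fin 3 → F) (eI i)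
    rw [hea, herm_smul_left, herm_smul_right hF, herm_eI_eI hF, if_pos rfl, mul_one] at h
    rw [pow_succ, mul_comm]; exact h
  · have hM : ((e : Matrix.SpecialLinearGroup (Fin 3) F) : Matrix (Fin 3) (Fin 3) F) = Matrix.diagonal a := by
      refine Matrix.ext_of_mulVec_single fun i => ?_
      rw [Matrix.diagonal_mulVec_single, mul_one]
      refine (hea i).trans ?_
      funext k
      simp [eI, Pi.single_apply]
    have h := e.1.2
    rw [hM, Matrix.det_diagonal, Fin.prod_univ_three] at h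
    exact h

omit hF in
/-- A vector in a frame. -/
theorem exists_coords {n : ℕ} (g : SU n F q) (v : Fin n → F) :
    ∃ r : Fin n → F, v = ∑ i, r i • (g • (eI i : Fin n → F)) := by
  refine ⟨g⁻¹ • v, ?_⟩
  conv_lhs => rw [← smul_inv_smul g v, eq_sum_eI (g⁻¹ • v), d_smul_sum]
  simp_rw [lineSmul]

/-- A fixed vector of a diagonal element. -/
theorem fixed_line {d : SU 3 F q} {g : SU 3 F q} {a : Fin 3 → F}
    (ha : ∀ i, d • (g • (eI i : Fin 3 → F)) = a i • (g • eI i)) {k : Fin 3} (hk : ∀ i, i ≠ k → a i ≠ 1)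
    {v : Fin 3 → F} (hv : d • v = v) : ∃ r : F, v = r • (g • eI k) := by
  obtain ⟨r, hr⟩ := exists_coords g v
  refine ⟨r k, ?_⟩
  have hz : ∀ i, i ≠ k → r i = 0 := by
    intro i hi
    have h := congrArg (fun w => herm q w (g • (eI i : Fin 3 → F))) hv
    simp only [hr, d_smul_sum, lineSmul, ha, herm_sum_left, herm_smul_left, herm_smul_SU, herm_eI_eI hF,
      mul_ite, mul_one, mul_zero, Finset.sum_ite_eq', Finset.mem_univ, if_true] at h
    rcases mul_right_eq_self₀.1 h with h' | h'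
    · exact absurd h' (hk i hi)
    · exact h'
  conv_lhs => rw [hr]
  exact Finset.sum_eq_single k (fun i _ hi => by rw [hz i hi, zero_smul]) (by simp)

end Cfsg.Agent.PhanStd11
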