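import Cfsg.Agent.PhanStd11.Copy
import Cfsg.Agent.KSG55.Phan.Coherent

/-!
Two copies of `SU₂(q)` generating `SU₃(q)` with commuting tori form a standard pair.
-/

set_option autoImplicit false
set_option linter.unusedSectionVars false

namespace Cfsg.Agent.PhanStd11

open Cfsg.Agent.Unitary Cfsg.Agent.KSG55.Phan
open Cfsg.Agent.KSG55.SUStep (exists_fixS_one)

variable {F : Type*} [Field F] [Fintype F] {q : ℕ} (hF : Fintype.card F = q ^ 2)

include hF

theorem stab_eI_eq {k : ℕ} (hk : k + 2 ≤ 3) (j : Fin 3)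
    (hj : ∀ i : Fin 3, ((i : ℕ) < k ∨ k + 2 ≤ (i : ℕ)) ↔ i = j) :
    MulAction.stabilizer (SU 3 F q) (eI j : Fin 3 → F) = (bl 3 2 k : SU 2 F q →* SU 3 F q).range := by
  refine le_antisymm (fun g hg => ?_) ?_
  · exact exists_bl hF hk fun i hi => by rw [(hj i).1 hi]; exact hg
  · rintro _ ⟨A, rfl⟩
    exact bl_fix hF hk A ((hj j).2 rfl)

/-- A copy of `SU₂` is the stabiliser of a point of norm one. -/
theorem exists_eq_stabilizer (hq : 3 ≤ q) {A : Subgroup (SU 3 F q)} (e : SU 2 F q ≃* A) :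
    ∃ p : Fin 3 → F, herm q p p = 1 ∧ A = MulAction.stabilizer (SU 3 F q) p := by
  classical
  have hinj : Function.Injective (A.subtype.comp e.toMonoidHom) := A.subtype_injective.comp e.injective
  obtain ⟨p, hp, hfix⟩ : ∃ p : Fin 3 → F, herm q p p = 1 ∧ ∀ X, A.subtype.comp e.toMonoidHom X • p = p := by
    by_cases h2 : (2 : F) = 0
    · exact exists_fixed_even hF hq h2 _ hinj
    · exact exists_fixed_odd hF hq h2 _ hinj
  have hle : A ≤ MulAction.stabilizer (SU 3 F q) p := fun x hx => by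
    have := hfix (e.symm ⟨x, hx⟩)
    simpa using this
  refine ⟨p, hp, Subgroup.eq_of_le_of_card_ge hle (le_of_eq ?_)⟩
  obtain ⟨g, -, hg⟩ := exists_fixS_one hF (S := (∅ : Finset (Fin 3))) (by simp) (x := eI 2) (x' := p)
    (by simp [mem_supp]) (by simp [mem_supp]) (by rw [herm_eI_eI hF, if_pos rfl]) hp
  rw [← hg, MulAction.stabilizer_smul_eq_stabilizer_map_conj,
    Subgroup.card_map_of_injective (MulAut.conj g).injective, ← Nat.card_congr e.toEquiv,
    stab_eI_eq hF (k := 0) (by norm_num) 2 (fun i => by fin_cases i <;> simp)]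
  exact (Nat.card_congr (MonoidHom.ofInjective (bl_injective (by norm_num))).toEquiv).symm

omit hF in
theorem eigen_distinct {d g : SU 3 F q} {a : Fin 3 → F}
    (ha : ∀ i, d • (g • (eI i : Fin 3 → F)) = a i • (g • eI i)) (hp : a 0 * a 1 * a 2 = 1) (hd : d ^ 2 ≠ 1)
    {k : Fin 3} (hk : a k = 1) : Function.Injective a := by
  have hne : d ≠ 1 := fun e => hd (by rw [e, one_pow])
  have hothers := others_ne_one ha hp hne hk
  have hsq : ¬ ∀ i, a i * a i = 1 := fun h => hd <| eq_one_of_frame (g := g) (a := fun i => a i * a i)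
    (fun i => by rw [pow_two, mul_smul, ha, lineSmul, ha, smul_smul]) h
  have hprod : ∀ i j : Fin 3, i ≠ j → i ≠ k → j ≠ k → a i * a j = 1 := by
    intro i j hij hik hjk
    rcases (show k = 0 ∨ k = 1 ∨ k = 2 by omega) with rfl | rfl | rfl <;>
      rcases (show i = 0 ∨ i = 1 ∨ i = 2 by omega) with rfl | rfl | rfl <;>
      rcases (show j = 0 ∨ j = 1 ∨ j = 2 by omega) with rfl | rfl | rfl <;>
      first
        | exact absurd rfl hij
        | exact absurd rfl hik
        | exact absurd rfl hjk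
        | (rw [hk] at hp; linear_combination hp)
  intro i j h
  by_contra hij
  by_cases hik : i = k
  · exact hothers j (fun e => hij (hik.trans e.symm)) (by rw [← h, hik, hk])
  by_cases hjk : j = k
  · exact hothers i hik (by rw [h, hjk, hk])
  have he := hprod i j hij hik hjk
  rw [← h] at he
  refine hsq fun l => ?_
  by_cases hlk : l = k
  · rw [hlk, hk, one_mul]
  rcases (show l = i ∨ l = j by omega) with rfl | rfl
  · exact he
  · rw [← h]; exact he

/-- The fixed point of a torus element is a point of its frame. -/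
theorem frame_point {d g : SU 3 F q} {a : Fin 3 → F}
    (ha : ∀ i, d • (g • (eI i : Fin 3 → F)) = a i • (g • eI i)) (hp : a 0 * a 1 * a 2 = 1) (hd : d ^ 2 ≠ 1)
    {p : Fin 3 → F} (hpn : herm q p p = 1) (hfix : d • p = p) :
    Function.Injective a ∧ ∃ (k : Fin 3) (r : F), r ^ (q + 1) = 1 ∧ p = r • (g • eI k) := by
  obtain ⟨k, hk⟩ : ∃ k, a k = 1 := by
    by_contra h
    push Not at h
    obtain ⟨r, hr⟩ := exists_coords g p
    have hz : herm q p p = 0 := by
      conv_lhs => arg 2; rw [hr]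
      rw [herm_sum_left]
      refine Finset.sum_eq_zero fun i _ => ?_
      rw [herm_smul_left, herm_eq_zero_of_eigen hF d (ha i) (b := 1) (by rw [one_smul, hfix]) (one_pow _) (h i),
        mul_zero]
    rw [hpn] at hz
    exact one_ne_zero hz
  have hothers := others_ne_one ha hp (fun e => hd (by rw [e, one_pow])) hk
  obtain ⟨r, hr⟩ := fixed_line hF ha hothers hfix
  refine ⟨eigen_distinct ha hp hd hk, k, r, ?_, hr⟩
  rw [hr, herm_smul_left, herm_smul_right hF, herm_smul_SU, herm_eI_eI hF, if_pos rfl, mul_one] at hpn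
  rw [pow_succ, mul_comm]; exact hpn

/-- Standard position. -/
theorem exists_standard (hq : 3 ≤ q) {A B : Subgroup (SU 3 F q)} (eA : SU 2 F q ≃* A) (eB : SU 2 F q ≃* B)
    (hgen : A ⊔ B = ⊤) {d e : SU 3 F q} (hdA : d ∈ A) (heB : e ∈ B) (hde : Commute d e)
    (hd : d ^ (q + 1) = 1) (hd2 : d ^ 2 ≠ 1) (he2 : e ^ 2 ≠ 1) :
    ∃ h : SU 3 F q,
      (bl 3 2 0 : SU 2 F q →* SU 3 F q).range.map (MulAut.conj h).toMonoidHom = A ∧
      (bl 3 2 1 : SU 2 F q →* SU 3 F q).range.map (MulAut.conj h).toMonoidHom = B := by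
  classical
  obtain ⟨p, hp, rfl⟩ := exists_eq_stabilizer hF hq eA
  obtain ⟨r, hr, rfl⟩ := exists_eq_stabilizer hF hq eB
  obtain ⟨g, a, ha, han, hprod⟩ := exists_frame hF hd
  obtain ⟨hinj, k, c, hc, hpk⟩ := frame_point hF ha hprod hd2 hp hdA
  set f : Fin 3 → (Fin 3 → F) := fun i => g • eI i with hf
  have hfn : ∀ i j, herm q (f i) (f j) = if i = j then 1 else 0 := fun i j => by
    rw [hf, herm_smul_SU, herm_eI_eI hF]
  have hline : ∀ i, ∃ b : F, e • f i = b • f i := fun i => by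
    obtain ⟨s, hs⟩ := exists_coords g (e • f i)
    have heig : d • (e • f i) = a i • (e • f i) := by
      rw [← mul_smul, hde.eq, mul_smul, show d • f i = a i • f i from ha i, lineSmul]
    refine ⟨s i, hs.trans (Finset.sum_eq_single i (fun j _ hj => ?_) (by simp))⟩
    have h0 : herm q (e • f i) (f j) = 0 :=
      herm_eq_zero_of_eigen hF d heig (ha j) (han j) fun h => hj (hinj h).symm
    rw [hs, herm_sum_left, Finset.sum_eq_single j (fun l _ hl => by
      rw [herm_smul_left, hfn, if_neg hl, mul_zero]) (by simp), herm_smul_left, hfn, if_pos rfl, mul_one] at h0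
    rw [h0, zero_smul]
  choose b hb using hline
  have hbprod : b 0 * b 1 * b 2 = 1 := by
    have hM : ∀ i, (g⁻¹ * e * g) • (eI i : Fin 3 → F) = b i • eI i := fun i => by
      rw [mul_smul, mul_smul, show g • (eI i : Fin 3 → F) = f i from rfl, hb, lineSmul, hf, inv_smul_smul]
    have h := (g⁻¹ * e * g).1.2
    have hM' : (((g⁻¹ * e * g : SU 3 F q) : Matrix.SpecialLinearGroup (Fin 3) F) : Matrix (Fin 3) (Fin 3) F) =
        Matrix.diagonal b := by
      refine Matrix.ext_of_mulVec_single fun i => ?_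
      rw [Matrix.diagonal_mulVec_single, mul_one]
      refine (hM i).trans ?_
      funext l
      simp [eI, Pi.single_apply]
    rw [hM', Matrix.det_diagonal, Fin.prod_univ_three] at h
    exact h
  obtain ⟨-, m, c', hc', hrm⟩ := frame_point hF hb hbprod he2 hr heB
  have hstab : ∀ {v : Fin 3 → F} {s : F}, s ≠ 0 →
      MulAction.stabilizer (SU 3 F q) (s • v) = MulAction.stabilizer (SU 3 F q) v := fun {v s} hs => by
    ext x
    rw [MulAction.mem_stabilizer_iff, MulAction.mem_stabilizer_iff, lineSmul, smul_right_inj hs]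
  rw [hpk, hrm, hstab (ne_zero_of_norm hc), hstab (ne_zero_of_norm hc')] at hgen ⊢
  have hkm : k ≠ m := by
    intro h
    subst h
    rw [sup_idem] at hgen
    obtain ⟨l, hl⟩ : ∃ l : Fin 3, l ≠ k := exists_ne k
    obtain ⟨x, -, hx⟩ := exists_fixS_one hF (S := (∅ : Finset (Fin 3))) (by simp) (x := f k) (x' := f l)
      (by simp [mem_supp]) (by simp [mem_supp]) (by rw [hfn, if_pos rfl]) (by rw [hfn, if_pos rfl])
    have hxk : x • f k = f k := by
      have : x ∈ MulAction.stabilizer (SU 3 F q) (f k) := by rw [hf, hgen]; trivial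
      exact this
    have h1 := hfn l k
    rw [← hx, hxk, hfn, if_pos rfl, if_neg hl] at h1
    exact one_ne_zero h1
  obtain ⟨g1, -, hg1⟩ := exists_fixS_one hF (S := (∅ : Finset (Fin 3))) (by simp) (x := eI 2) (x' := f k)
    (by simp [mem_supp]) (by simp [mem_supp]) (by rw [herm_eI_eI hF, if_pos rfl]) (by rw [hfn, if_pos rfl])
  obtain ⟨g2, hg2, hg2e⟩ := exists_fixS_one hF (S := ({2} : Finset (Fin 3))) (by simp [Finset.card_compl])
    (x := eI 0) (x' := g1⁻¹ • f m) (eI_mem_supp (by simp)) (fun i hi => by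
      rw [Finset.mem_singleton.1 hi, ← herm_eI_right hF 2 (g1⁻¹ • f m), ← herm_smul_SU g1, smul_inv_smul, hg1, hfn,
        if_neg (Ne.symm hkm)])
    (by rw [herm_eI_eI hF, if_pos rfl]) (by rw [herm_smul_SU, hfn, if_pos rfl])
  refine ⟨g1 * g2, ?_, ?_⟩
  · rw [← stab_eI_eq hF (k := 0) (by norm_num) 2 (fun i => by fin_cases i <;> simp),
      ← MulAction.stabilizer_smul_eq_stabilizer_map_conj, mul_smul, mem_fixS.1 hg2 2 (by simp), hg1]
  · rw [← stab_eI_eq hF (k := 1) (by norm_num) 0 (fun i => by fin_cases i <;> simp),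
      ← MulAction.stabilizer_smul_eq_stabilizer_map_conj, mul_smul, hg2e, smul_inv_smul]

/-- Two copies of `SU₂` generating `SU₃` with commuting cyclic tori form a standard pair. -/
theorem standard_pair (hq : 4 ≤ q) {G : Type*} [Group G] {Ua Ub Da Db : Subgroup G}
    (ea : SU 2 F q ≃* Ua) (eb : SU 2 F q ≃* Ub) (ψ : SU 3 F q ≃* ↥(Ua ⊔ Ub))
    (hDa : Da ≤ Ua ∧ IsCyclic Da ∧ Nat.card Da = q + 1) (hDb : Db ≤ Ub ∧ IsCyclic Db ∧ Nat.card Db = q + 1)
    (hc : ∀ x ∈ Da, ∀ y ∈ Db, x * y = y * x) :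
    Cfsg.IsStandardUnitaryPair (Ua ⊔ Ub) Ua Ub F q := by
  classical
  set φ : SU 3 F q →* G := (Ua ⊔ Ub).subtype.comp ψ.toMonoidHom with hφ
  have hφi : Function.Injective φ := (Ua ⊔ Ub).subtype_injective.comp ψ.injective
  have hφr : φ.range = Ua ⊔ Ub := by
    rw [hφ, MonoidHom.range_comp, MonoidHom.range_eq_top.2 ψ.surjective, ← MonoidHom.range_eq_map,
      Subgroup.range_subtype]
  have hmap : ∀ {U : Subgroup G}, U ≤ Ua ⊔ Ub → (U.comap φ).map φ = U := fun {U} hU => by
    rw [Subgroup.map_comap_eq, hφr, inf_eq_right.2 hU]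
  have hiso : ∀ {U : Subgroup G}, U ≤ Ua ⊔ Ub → Nonempty (↥(U.comap φ) ≃* U) := fun {U} hU =>
    ⟨((U.comap φ).equivMapOfInjective φ hφi).trans (MulEquiv.subgroupCongr (hmap hU))⟩
  obtain ⟨ia⟩ := hiso (le_sup_left : Ua ≤ Ua ⊔ Ub)
  obtain ⟨ib⟩ := hiso (le_sup_right : Ub ≤ Ua ⊔ Ub)
  have hgen : Ua.comap φ ⊔ Ub.comap φ = ⊤ := by
    apply Subgroup.map_injective hφi
    rw [Subgroup.map_sup, hmap le_sup_left, hmap le_sup_right, ← MonoidHom.range_eq_map, hφr]
  have hgenr : ∀ {D U : Subgroup G}, D ≤ U → U ≤ Ua ⊔ Ub → IsCyclic D → Nat.card D = q + 1 →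
      ∃ d : SU 3 F q, φ d ∈ D ∧ d ∈ U.comap φ ∧ d ^ (q + 1) = 1 ∧ d ^ 2 ≠ 1 := by
    intro D U hDU hU hcyc hcard
    obtain ⟨x, hx⟩ := IsCyclic.exists_generator (α := D)
    have hord : orderOf (x : G) = q + 1 := by
      rw [Subgroup.orderOf_coe, orderOf_eq_card_of_forall_mem_zpowers hx, hcard]
    obtain ⟨d, hd⟩ : (x : G) ∈ φ.range := hφr ▸ hU (hDU x.2)
    have hdo : orderOf d = q + 1 := by rw [← orderOf_injective φ hφi, hd, hord]
    refine ⟨d, hd ▸ x.2, show φ d ∈ U from hd ▸ hDU x.2, hdo ▸ pow_orderOf_eq_one d, fun h => ?_⟩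
    have := Nat.le_of_dvd (by norm_num) (hdo ▸ orderOf_dvd_of_pow_eq_one h)
    omega
  obtain ⟨d, hdD, hdU, hd1, hd2⟩ := hgenr hDa.1 le_sup_left hDa.2.1 hDa.2.2
  obtain ⟨e, heD, heU, -, he2⟩ := hgenr hDb.1 le_sup_right hDb.2.1 hDb.2.2
  obtain ⟨h, hA, hB⟩ := exists_standard hF (by omega) (ea.trans ia.symm) (eb.trans ib.symm) hgen hdU heU
    (hφi (by rw [map_mul, map_mul]; exact hc _ hdD _ heD)) hd1 hd2 he2
  refine Or.inl ⟨(MulAut.conj h).trans ψ, ?_, ?_⟩
  · rw [suBlock_eq hF (k := 0) (by norm_num) (fun j => by fin_cases j <;> simp),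
      show (Ua ⊔ Ub).subtype.comp ((MulAut.conj h).trans ψ).toMonoidHom = φ.comp (MulAut.conj h).toMonoidHom from rfl,
      ← Subgroup.map_map, hA, hmap le_sup_left]
  · rw [suBlock_eq hF (k := 1) (by norm_num) (fun j => by fin_cases j <;> simp),
      show (Ua ⊔ Ub).subtype.comp ((MulAut.conj h).trans ψ).toMonoidHom = φ.comp (MulAut.conj h).toMonoidHom from rfl,
      ← Subgroup.map_map, hB, hmap le_sup_right]

end Cfsg.Agent.PhanStd11
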